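import Mathlib
import Cfsg.Agent.Lib.Helper41.CS3.GoodDefs
import Cfsg.Agent.Lib.Helper97.Schmidt

/-!
CS3 (S4284), part GOOD, package [COVER]: a finite group is not the union of the conjugates of a
proper subgroup (wrapper of the landed `Helper97.exists_not_conj_mem`).
-/

set_option autoImplicit false

namespace Cfsg.Agent.Lib.Helper21.CS3

open Cfsg.Agent.Lib.Helper41.CS3

universe u

theorem pkgCover : PkgCover.{u} := by
  intro G _ _ H hH
  obtain ⟨x, -, hx⟩ := Cfsg.Agent.Lib.Helper97.exists_not_conj_mem H hH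
  refine ⟨x, fun g => ?_⟩
  have h := hx g⁻¹
  rw [inv_inv] at h
  exact h

end Cfsg.Agent.Lib.Helper21.CS3
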